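import Mathlib

/-! # Additivity of lengths of intersections in a UFD -/

universe u

namespace GrothLib.SurfLength

variable {A : Type u} [CommRing A] [IsDomain A] [DecompositionMonoid A]

open Ideal in
theorem length_mul_add (f g h : A) (hhg : IsRelPrime h g) :
    Module.length A (A ⧸ span ({f * h, g} : Set A)) =
      Module.length A (A ⧸ span ({f, g} : Set A)) + Module.length A (A ⧸ span ({h, g} : Set A)) := by
  let φ : (A ⧸ span ({f, g} : Set A)) →ₗ[A] A ⧸ span ({f * h, g} : Set A) :=
    Submodule.mapQ (span ({f, g} : Set A)) (span ({f * h, g} : Set A)) (LinearMap.mulLeft A h) fun x hx => by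
      obtain ⟨a, b, rfl⟩ := mem_span_pair.mp hx
      exact mem_span_pair.mpr ⟨a, h * b, by simp [LinearMap.mulLeft_apply]; ring⟩
  have hle : span ({f * h, g} : Set A) ≤ span ({h, g} : Set A) := fun x hx => by
    obtain ⟨a, b, rfl⟩ := mem_span_pair.mp hx
    exact mem_span_pair.mpr ⟨a * f, b, by ring⟩
  refine Module.length_eq_add_of_exact φ (Submodule.factor hle) ?_ (Submodule.factor_surjective hle) ?_
  · rw [injective_iff_map_eq_zero]
    intro z hz
    obtain ⟨x, rfl⟩ := Submodule.Quotient.mk_surjective _ z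
    rw [Submodule.mapQ_apply, Submodule.Quotient.mk_eq_zero, LinearMap.mulLeft_apply] at hz
    rw [Submodule.Quotient.mk_eq_zero]
    obtain ⟨a, b, hab⟩ := mem_span_pair.mp hz
    have hd : g ∣ h * (x - a * f) := ⟨b, by linear_combination -hab⟩
    obtain ⟨c, hc⟩ := (hhg.symm.dvd_of_dvd_mul_left hd)
    exact mem_span_pair.mpr ⟨a, c, by linear_combination -hc⟩
  · intro y
    obtain ⟨x, rfl⟩ := Submodule.Quotient.mk_surjective _ y
    show (Submodule.Quotient.mk x : A ⧸ span ({h, g} : Set A)) = 0 ↔ _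
    rw [Submodule.Quotient.mk_eq_zero]
    constructor
    · intro hx
      obtain ⟨a, b, rfl⟩ := mem_span_pair.mp hx
      refine ⟨Submodule.Quotient.mk a, ?_⟩
      rw [Submodule.mapQ_apply, Submodule.Quotient.eq, LinearMap.mulLeft_apply]
      exact mem_span_pair.mpr ⟨0, -b, by ring⟩
    · rintro ⟨z, hz⟩
      obtain ⟨a, rfl⟩ := Submodule.Quotient.mk_surjective _ z
      rw [Submodule.mapQ_apply, Submodule.Quotient.eq, LinearMap.mulLeft_apply] at hz
      obtain ⟨c, d, hcd⟩ := mem_span_pair.mp hz
      exact mem_span_pair.mpr ⟨a - c * f, -d, by linear_combination -hcd⟩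

theorem length_prod {n : ℕ} (f : Fin n → A) (g : A) (hg : ∀ i, IsRelPrime (f i) g) :
    Module.length A (A ⧸ Ideal.span ({∏ i, f i, g} : Set A)) =
      ∑ i, Module.length A (A ⧸ Ideal.span ({f i, g} : Set A)) := by
  induction n with
  | zero =>
    rw [Fin.prod_univ_zero, Fin.sum_univ_zero]
    have : Ideal.span ({1, g} : Set A) = ⊤ := Ideal.eq_top_of_isUnit_mem _ (Ideal.subset_span (by simp)) isUnit_one
    haveI : Subsingleton (A ⧸ Ideal.span ({1, g} : Set A)) := by
      rw [this]; exact Ideal.Quotient.subsingleton_iff.mpr rfl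
    exact Module.length_eq_zero
  | succ n ih =>
    rw [Fin.prod_univ_castSucc, Fin.sum_univ_castSucc, length_mul_add _ _ _ (hg _),
      ih _ fun i => hg _]

/-- `A/(∏ fᵢ) → ⊕ A/(fᵢ)`. -/
noncomputable def toPi {n : ℕ} (f : Fin n → A) :
    (A ⧸ Ideal.span {∏ i, f i}) →ₗ[A] ((i : Fin n) → A ⧸ Ideal.span {f i}) :=
  LinearMap.pi fun i => Submodule.mapQ (Ideal.span {∏ i, f i}) (Ideal.span {f i}) LinearMap.id
    (Ideal.span_singleton_le_span_singleton.mpr (Finset.dvd_prod_of_mem f (Finset.mem_univ i)))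

theorem toPi_injective {n : ℕ} (f : Fin n → A) (hcop : ∀ i j, i ≠ j → IsRelPrime (f i) (f j)) :
    Function.Injective (toPi f) := by
  rw [injective_iff_map_eq_zero]
  intro z hz
  obtain ⟨x, rfl⟩ := Submodule.Quotient.mk_surjective _ z
  rw [Submodule.Quotient.mk_eq_zero, Ideal.mem_span_singleton]
  refine Fintype.prod_dvd_of_isRelPrime (fun i j hij => hcop i j hij) fun i => ?_
  have := congrFun hz i
  rw [toPi, LinearMap.pi_apply, Submodule.mapQ_apply, Pi.zero_apply, Submodule.Quotient.mk_eq_zero,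
    Ideal.mem_span_singleton] at this
  exact this

/-- Comparison of `A/(P·g) → A/P × A/g`. -/
noncomputable def toProd (P g : A) :
    (A ⧸ Ideal.span {P * g}) →ₗ[A] (A ⧸ Ideal.span {P}) × (A ⧸ Ideal.span {g}) :=
  (Submodule.mapQ (Ideal.span {P * g}) (Ideal.span {P}) LinearMap.id
    (Ideal.span_singleton_le_span_singleton.mpr (dvd_mul_right _ _))).prod
  (Submodule.mapQ (Ideal.span {P * g}) (Ideal.span {g}) LinearMap.id
    (Ideal.span_singleton_le_span_singleton.mpr (dvd_mul_left _ _)))

omit [IsDomain A] [DecompositionMonoid A] in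
theorem length_coker_toProd (P g : A) :
    Module.length A (((A ⧸ Ideal.span {P}) × (A ⧸ Ideal.span {g})) ⧸ LinearMap.range (toProd P g)) =
      Module.length A (A ⧸ Ideal.span ({P, g} : Set A)) := by
  have h1 : Ideal.span {P} ≤ Ideal.span ({P, g} : Set A) := Ideal.span_mono (by simp)
  have h2 : Ideal.span {g} ≤ Ideal.span ({P, g} : Set A) := Ideal.span_mono (by simp)
  let δ : (A ⧸ Ideal.span {P}) × (A ⧸ Ideal.span {g}) →ₗ[A] A ⧸ Ideal.span ({P, g} : Set A) :=
    LinearMap.coprod (Submodule.factor h1) (-Submodule.factor h2)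
  have hs : Function.Surjective δ := fun z => by
    obtain ⟨x, hx⟩ := Submodule.factor_surjective h1 z
    exact ⟨(x, 0), by simp [δ, hx]⟩
  have hk : LinearMap.range (toProd P g) = LinearMap.ker δ := by
    ext ⟨a, b⟩
    obtain ⟨a, rfl⟩ := Submodule.Quotient.mk_surjective _ a
    obtain ⟨b, rfl⟩ := Submodule.Quotient.mk_surjective _ b
    rw [LinearMap.mem_ker, show δ (Submodule.Quotient.mk a, Submodule.Quotient.mk b) =
      (Submodule.Quotient.mk a : A ⧸ Ideal.span ({P, g} : Set A)) + -Submodule.Quotient.mk b from rfl,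
      ← sub_eq_add_neg, ← Submodule.Quotient.mk_sub, Submodule.Quotient.mk_eq_zero]
    constructor
    · rintro ⟨z, hz⟩
      obtain ⟨x, rfl⟩ := Submodule.Quotient.mk_surjective _ z
      have e1 : (Submodule.Quotient.mk x : A ⧸ Ideal.span {P}) = Submodule.Quotient.mk a := congrArg Prod.fst hz
      have e2 : (Submodule.Quotient.mk x : A ⧸ Ideal.span {g}) = Submodule.Quotient.mk b := congrArg Prod.snd hz
      rw [Submodule.Quotient.eq] at e1 e2
      have := Ideal.sub_mem _ (h2 e2) (h1 e1)
      simpa using this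
    · intro h
      obtain ⟨c, d, hcd⟩ := Ideal.mem_span_pair.mp h
      refine ⟨Submodule.Quotient.mk (a - c * P), Prod.ext ?_ ?_⟩
      · show (Submodule.Quotient.mk (a - c * P) : A ⧸ Ideal.span {P}) = Submodule.Quotient.mk a
        rw [Submodule.Quotient.eq]
        exact Ideal.mem_span_singleton.mpr ⟨-c, by ring⟩
      · show (Submodule.Quotient.mk (a - c * P) : A ⧸ Ideal.span {g}) = Submodule.Quotient.mk b
        rw [Submodule.Quotient.eq]
        exact Ideal.mem_span_singleton.mpr ⟨d, by linear_combination -hcd⟩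
  exact ((Submodule.quotEquivOfEq _ _ hk).trans (δ.quotKerEquivOfSurjective hs)).length_eq

omit [IsDomain A] [DecompositionMonoid A] in
theorem length_coker_comp {M N Q : Type u} [AddCommGroup M] [AddCommGroup N] [AddCommGroup Q]
    [Module A M] [Module A N] [Module A Q] (φ : M →ₗ[A] N) (ψ : N →ₗ[A] Q)
    (hψ : Function.Injective ψ) :
    Module.length A (Q ⧸ LinearMap.range (ψ.comp φ)) =
      Module.length A (N ⧸ LinearMap.range φ) + Module.length A (Q ⧸ LinearMap.range ψ) := by
  have hle : LinearMap.range (ψ.comp φ) ≤ LinearMap.range ψ := LinearMap.range_comp_le_range _ _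
  let α : (N ⧸ LinearMap.range φ) →ₗ[A] Q ⧸ LinearMap.range (ψ.comp φ) :=
    Submodule.mapQ (LinearMap.range φ) (LinearMap.range (ψ.comp φ)) ψ (by
      rintro _ ⟨x, rfl⟩; exact ⟨x, rfl⟩)
  refine Module.length_eq_add_of_exact α (Submodule.factor hle) ?_ (Submodule.factor_surjective hle) ?_
  · rw [injective_iff_map_eq_zero]
    intro z hz
    obtain ⟨x, rfl⟩ := Submodule.Quotient.mk_surjective _ z
    rw [Submodule.mapQ_apply, Submodule.Quotient.mk_eq_zero] at hz
    obtain ⟨m, hm⟩ := hz
    rw [Submodule.Quotient.mk_eq_zero]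
    exact ⟨m, hψ hm⟩
  · intro y
    obtain ⟨x, rfl⟩ := Submodule.Quotient.mk_surjective _ y
    show (Submodule.Quotient.mk x : Q ⧸ LinearMap.range ψ) = 0 ↔ _
    rw [Submodule.Quotient.mk_eq_zero]
    constructor
    · rintro ⟨w, rfl⟩; exact ⟨Submodule.Quotient.mk w, rfl⟩
    · rintro ⟨z, hz⟩
      obtain ⟨w, rfl⟩ := Submodule.Quotient.mk_surjective _ z
      rw [Submodule.mapQ_apply, Submodule.Quotient.eq] at hz
      have := Submodule.sub_mem _ (⟨w, rfl⟩ : ψ w ∈ LinearMap.range ψ) (hle hz)
      simpa using this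

theorem length_coker_toPi : ∀ {n : ℕ} (f : Fin n → A), (∀ i j, i ≠ j → IsRelPrime (f i) (f j)) →
    Module.length A (((i : Fin n) → A ⧸ Ideal.span {f i}) ⧸ LinearMap.range (toPi f)) =
      ∑ p ∈ (Finset.univ : Finset (Fin n × Fin n)) with p.1 < p.2,
        Module.length A (A ⧸ Ideal.span ({f p.1, f p.2} : Set A)) := by
  intro n
  induction n with
  | zero => intro f _; simp [Module.length_eq_zero]
  | succ n ih =>
    intro f hcop
    set f' : Fin n → A := fun i => f i.castSucc
    have hcop' : ∀ i j, i ≠ j → IsRelPrime (f' i) (f' j) := fun i j h => hcop _ _ (by simpa using h)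
    set g := f (Fin.last n)
    let ψ : (A ⧸ Ideal.span {∏ i, f' i}) × (A ⧸ Ideal.span {g}) →ₗ[A]
        ((i : Fin n) → A ⧸ Ideal.span {f' i}) × (A ⧸ Ideal.span {g}) :=
      (toPi f').prodMap LinearMap.id
    have hψ : Function.Injective ψ := (toPi_injective f' hcop').prodMap Function.injective_id
    let e : (((i : Fin n) → A ⧸ Ideal.span {f' i}) × (A ⧸ Ideal.span {g})) ≃ₗ[A]
        ((i : Fin (n + 1)) → A ⧸ Ideal.span {f i}) :=
      { toFun := fun p => Fin.lastCases (motive := fun i => A ⧸ Ideal.span {f i}) p.2 p.1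
        map_add' := fun p q => by ext i; refine Fin.lastCases ?_ (fun j => ?_) i <;> simp
        map_smul' := fun a p => by ext i; refine Fin.lastCases ?_ (fun j => ?_) i <;> simp
        invFun := fun h => (fun i => h i.castSucc, h (Fin.last n))
        left_inv := fun p => by simp
        right_inv := fun h => by ext i; refine Fin.lastCases ?_ (fun j => ?_) i <;> simp }
    have hP : Ideal.span {∏ i, f i} = Ideal.span {(∏ i, f' i) * g} := by
      rw [Fin.prod_univ_castSucc]
    have hfac : toPi f = e.toLinearMap.comp ((ψ.comp (toProd (∏ i, f' i) g)).comp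
        (Submodule.quotEquivOfEq _ _ hP).toLinearMap) := by
      refine Submodule.linearMap_qext _ (LinearMap.ext fun x => funext fun i => ?_)
      refine Fin.lastCases ?_ (fun j => ?_) i <;>
        simp [toPi, toProd, ψ, e] <;> rfl
    have hr : LinearMap.range (toPi f) =
        (LinearMap.range (ψ.comp (toProd (∏ i, f' i) g))).map (e : _ →ₗ[A] _) := by
      rw [hfac, LinearMap.range_comp, LinearMap.range_comp_of_range_eq_top _
        (LinearEquiv.range _)]
    rw [← (Submodule.Quotient.equiv _ _ e hr.symm).length_eq, length_coker_comp _ ψ hψ,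
      length_coker_toProd, length_prod f' g fun i => hcop _ _ (Fin.castSucc_lt_last i).ne]
    have hc : LinearMap.range ψ = (LinearMap.range (toPi f')).prod ⊤ := by
      rw [LinearMap.range_prodMap, LinearMap.range_id]
    let φ : (((i : Fin n) → A ⧸ Ideal.span {f' i}) × (A ⧸ Ideal.span {g})) →ₗ[A]
        ((i : Fin n) → A ⧸ Ideal.span {f' i}) ⧸ LinearMap.range (toPi f') :=
      (LinearMap.range (toPi f')).mkQ.comp (LinearMap.fst A _ _)
    have hk : LinearMap.range ψ = LinearMap.ker φ := by
      rw [hc]; ext x; simp [φ, Submodule.mem_prod]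
    rw [((Submodule.quotEquivOfEq _ _ hk).trans (φ.quotKerEquivOfSurjective
      ((Submodule.mkQ_surjective _).comp LinearMap.fst_surjective))).length_eq, ih f' hcop']
    simp only [Finset.sum_filter, Fintype.sum_prod_type, Fin.sum_univ_castSucc,
      Fin.castSucc_lt_castSucc_iff, Fin.castSucc_lt_last, not_lt_of_ge (Fin.le_last _), if_true, if_false,
      lt_irrefl, Finset.sum_add_distrib, Finset.sum_const_zero, add_zero, f', g]
    exact add_comm _ _

end GrothLib.SurfLength
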